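import Groth.Prelude.Def_W4c5normfunctorschNorm
import Mathlib.RingTheory.IsTensorProduct
import Mathlib.RingTheory.Norm.Basic

/-!
# Base change of normic laws
-/

set_option autoImplicit false

universe u

open scoped TensorProduct
open TensorProduct

namespace Groth.Agent.H1NormBC

section BC

variable {R : Type u} [CommRing R] {Q : Type u} [CommRing Q] [Algebra R Q]
  {X : Type u} [AddCommGroup X] [Module R X]
  {Y : Type u} [AddCommGroup Y] [Module R Y] [Module Q Y] [IsScalarTower R Q Y]

/-- `p ⊗ x ↦ p ⊗ g x`, over semiring test algebras. -/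
noncomputable def bcS (g : X →ₗ[R] Y) (S : Type u) [CommSemiring S] [Algebra R S] [Algebra Q S]
    [IsScalarTower R Q S] : S ⊗[R] X →ₗ[R] S ⊗[Q] Y :=
  (((g.liftBaseChange Q).lTensor S).restrictScalars R) ∘ₗ
    ((AlgebraTensorModule.cancelBaseChange R Q Q S X).symm.toLinearMap.restrictScalars R)

@[simp]
theorem bcS_tmul (g : X →ₗ[R] Y) (S : Type u) [CommSemiring S] [Algebra R S] [Algebra Q S]
    [IsScalarTower R Q S] (s : S) (x : X) : bcS (Q := Q) g S (s ⊗ₜ[R] x) = s ⊗ₜ[Q] g x := by
  simp [bcS]

theorem bcS_smul (g : X →ₗ[R] Y) (S : Type u) [CommSemiring S] [Algebra R S] [Algebra Q S]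
    [IsScalarTower R Q S] (s : S) (z : S ⊗[R] X) : bcS (Q := Q) g S (s • z) = s • bcS (Q := Q) g S z := by
  induction z using TensorProduct.induction_on with
  | zero => simp
  | tmul a b => simp [TensorProduct.smul_tmul']
  | add a b ha hb => simp [ha, hb]

theorem bcAlong_eq (g : X →ₗ[R] Y) (P : Type u) [CommRing P] [Algebra R P] [Algebra Q P]
    [IsScalarTower R Q P] (z : P ⊗[R] X) : PolLaw.bcAlong (Q := Q) g P z = bcS (Q := Q) g P z := by
  induction z using TensorProduct.induction_on with
  | zero => simp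
  | tmul a b => simp [PolLaw.bcAlong]
  | add a b ha hb => simp [ha, hb]

theorem bcS_nat (g : X →ₗ[R] Y) {S S' : Type u} [CommSemiring S] [Algebra R S] [Algebra Q S]
    [IsScalarTower R Q S] [CommSemiring S'] [Algebra R S'] [Algebra Q S'] [IsScalarTower R Q S']
    (φ : S →ₐ[Q] S') (z : S ⊗[R] X) :
    φ.toLinearMap.rTensor Y (bcS (Q := Q) g S z) =
      bcS (Q := Q) g S' ((φ.restrictScalars R).toLinearMap.rTensor X z) := by
  induction z using TensorProduct.induction_on with
  | zero => simp
  | tmul a b => simp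
  | add a b ha hb => simp [ha, hb]

theorem bcS_bijective (g : X →ₗ[R] Y) (hg : IsBaseChange Q g) (S : Type u) [CommSemiring S] [Algebra R S]
    [Algebra Q S] [IsScalarTower R Q S] : Function.Bijective (bcS (Q := Q) g S) := by
  have h : g.liftBaseChange Q = hg.equiv.toLinearMap := by
    ext x
    simp [hg.equiv_tmul]
  have : Function.Bijective ((hg.equiv.toLinearMap).lTensor S) :=
    (LinearEquiv.lTensor S hg.equiv).bijective
  rw [bcS, h]
  exact this.comp (AlgebraTensorModule.cancelBaseChange R Q Q S X).symm.bijective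

/-- `(q ⊗ s) ⊗ n ↦ s ⊗ q n`. -/
noncomputable def contr (S : Type u) [CommSemiring S] [Algebra R S] (Z : Type u) [AddCommGroup Z] [Module R Z]
    [Module Q Z] [IsScalarTower R Q Z] : (Q ⊗[R] S) ⊗[Q] Z →ₗ[R] S ⊗[R] Z :=
  (TensorProduct.comm R Z S).toLinearMap ∘ₗ
    ((AlgebraTensorModule.cancelBaseChange R Q Q Z S).toLinearMap.restrictScalars R) ∘ₗ
      ((TensorProduct.comm Q (Q ⊗[R] S) Z).toLinearMap.restrictScalars R)

@[simp]
theorem contr_tmul (S : Type u) [CommSemiring S] [Algebra R S] (Z : Type u) [AddCommGroup Z] [Module R Z]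
    [Module Q Z] [IsScalarTower R Q Z] (q : Q) (s : S) (n : Z) :
    contr (Q := Q) S Z ((q ⊗ₜ[R] s) ⊗ₜ[Q] n) = s ⊗ₜ[R] (q • n) := by
  simp [contr]

theorem contr_smul (S : Type u) [CommSemiring S] [Algebra R S] (Z : Type u) [AddCommGroup Z] [Module R Z]
    [Module Q Z] [IsScalarTower R Q Z] (a : S) (z : (Q ⊗[R] S) ⊗[Q] Z) :
    contr (Q := Q) S Z (((1 : Q) ⊗ₜ[R] a) • z) = a • contr (Q := Q) S Z z := by
  induction z using TensorProduct.induction_on with
  | zero => simp
  | add a b ha hb => simp only [smul_add, map_add, ha, hb]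
  | tmul p n =>
    induction p using TensorProduct.induction_on with
    | zero => simp
    | add a b ha hb => simp only [TensorProduct.add_tmul, smul_add, map_add, ha, hb]
    | tmul q s =>
      rw [TensorProduct.smul_tmul', smul_eq_mul, Algebra.TensorProduct.tmul_mul_tmul, one_mul, contr_tmul,
        contr_tmul, TensorProduct.smul_tmul', smul_eq_mul]

theorem contr_nat {S S' : Type u} [CommSemiring S] [Algebra R S] [CommSemiring S'] [Algebra R S']
    (φ : S →ₐ[R] S') {Z : Type u} [AddCommGroup Z] [Module R Z] [Module Q Z] [IsScalarTower R Q Z]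
    (z : (Q ⊗[R] S) ⊗[Q] Z) :
    φ.toLinearMap.rTensor Z (contr (Q := Q) S Z z) =
      contr (Q := Q) S' Z ((Algebra.TensorProduct.map (AlgHom.id Q Q) φ).toLinearMap.rTensor Z z) := by
  induction z using TensorProduct.induction_on with
  | zero => simp
  | add a b ha hb => simp only [map_add, ha, hb]
  | tmul p n =>
    induction p using TensorProduct.induction_on with
    | zero => simp
    | add a b ha hb => simp only [TensorProduct.add_tmul, map_add, ha, hb]
    | tmul q s => simp

end BC

section Norm

variable {R R' Q Q' : Type u} [CommRing R] [CommRing R'] [Algebra R R']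
  [CommRing Q] [Algebra R Q] [CommRing Q'] [Algebra R Q'] [Algebra Q Q'] [Algebra R' Q']
  [IsScalarTower R Q Q'] [IsScalarTower R R' Q']

/-- The base change map on test algebras of the coefficient algebras. -/
noncomputable def algBC (P : Type u) [CommRing P] [Algebra R P] [Algebra Q P] [IsScalarTower R Q P] :
    P ⊗[R] R' →ₐ[P] P ⊗[Q] Q' :=
  Algebra.TensorProduct.lift (Algebra.ofId P _)
    ((Algebra.TensorProduct.includeRight.restrictScalars R).comp (IsScalarTower.toAlgHom R R' Q'))
    (fun _ _ => Commute.all _ _)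

@[simp]
theorem algBC_tmul (P : Type u) [CommRing P] [Algebra R P] [Algebra Q P] [IsScalarTower R Q P] (p : P) (r : R') :
    algBC (Q := Q) (Q' := Q') P (p ⊗ₜ[R] r) = p ⊗ₜ[Q] algebraMap R' Q' r := by
  simp [algBC, Algebra.ofId_apply, Algebra.TensorProduct.algebraMap_apply, Algebra.TensorProduct.tmul_mul_tmul]

theorem algBC_bijective [Algebra.IsPushout R R' Q Q'] (P : Type u) [CommRing P] [Algebra R P] [Algebra Q P]
    [IsScalarTower R Q P] : Function.Bijective (algBC (R := R) (R' := R') (Q := Q) (Q' := Q') P) := by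
  have hb : IsBaseChange Q (IsScalarTower.toAlgHom R R' Q').toLinearMap :=
    (Algebra.IsPushout.symm (R := R) (S := R') (R' := Q) (S' := Q') inferInstance).out
  have h : ⇑(algBC (R := R) (R' := R') (Q := Q) (Q' := Q') P) =
      ⇑(bcS (Q := Q) (IsScalarTower.toAlgHom R R' Q').toLinearMap P) := by
    funext z
    induction z using TensorProduct.induction_on with
    | zero => simp
    | tmul a b => simp
    | add a b ha hb => simp [ha, hb]
  rw [h]
  exact bcS_bijective _ hb P

theorem norm_algBC [Algebra.IsPushout R R' Q Q'] (P : Type u) [CommRing P] [Algebra R P] [Algebra Q P]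
    [IsScalarTower R Q P] (x : P ⊗[R] R') :
    Algebra.norm P (algBC (Q := Q) (Q' := Q') P x) = Algebra.norm P x :=
  (Algebra.norm_eq_of_algEquiv (AlgEquiv.ofBijective _ (algBC_bijective (Q := Q) (Q' := Q') P)) x :)

variable {M' : Type u} [AddCommGroup M'] [Module R M'] [Module R' M'] [IsScalarTower R R' M']
  {M'' : Type u} [AddCommGroup M''] [Module R M''] [Module R' M''] [Module Q M''] [Module Q' M'']
  [IsScalarTower R R' M''] [IsScalarTower R Q M''] [IsScalarTower R' Q' M''] [IsScalarTower Q Q' M'']

theorem bcS_act (f : M' →ₗ[R'] M'') (P : Type u) [CommRing P] [Algebra R P] [Algebra Q P] [IsScalarTower R Q P]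
    (x : P ⊗[R] R') (m : P ⊗[R] M') :
    bcS (Q := Q) (f.restrictScalars R) P (PolLaw.actEnd M' P x m) =
      PolLaw.actEnd M'' P (algBC (Q := Q) (Q' := Q') P x) (bcS (Q := Q) (f.restrictScalars R) P m) := by
  induction m using TensorProduct.induction_on with
  | zero => simp
  | add a b ha hb => simp only [map_add, ha, hb]
  | tmul t y =>
    induction x using TensorProduct.induction_on with
    | zero => simp
    | add a b ha hb => simp only [map_add, LinearMap.add_apply, ha, hb]
    | tmul p r => simp [LinearMap.map_smul, algebraMap_smul]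

theorem isBaseChange_restrict [Algebra.IsPushout R R' Q Q'] (f : M' →ₗ[R'] M'') (hf : IsBaseChange Q' f) :
    IsBaseChange Q (f.restrictScalars R) := by
  haveI : Algebra.IsPushout R Q R' Q' := Algebra.IsPushout.symm inferInstance
  refine IsBaseChange.of_equiv
    ((Algebra.IsPushout.cancelBaseChange R Q R' Q' M').symm ≪≫ₗ hf.equiv.restrictScalars Q) fun m => ?_
  simp [Algebra.IsPushout.cancelBaseChange_symm_tmul, hf.equiv_tmul]

end Norm

end Groth.Agent.H1NormBC
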