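import Groth.Agent.H1NormBC.Basic

/-!
# Universal normic pairs commute with base change
-/

set_option autoImplicit false

universe u

open scoped TensorProduct
open TensorProduct

namespace Groth.Agent.H1NormBC

section Tools

variable {R : Type u} [CommRing R] {Q : Type u} [CommRing Q] [Algebra R Q]

/-- `s ↦ 1 ⊗ s`. -/
noncomputable def incl (S : Type u) [CommSemiring S] [Algebra R S] : S →ₐ[R] Q ⊗[R] S :=
  Algebra.TensorProduct.includeRight

/-- `q ⊗ s ↦ q s`. -/
noncomputable def mulMap (S : Type u) [CommSemiring S] [Algebra R S] [Algebra Q S] [IsScalarTower R Q S] :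
    Q ⊗[R] S →ₐ[Q] S :=
  Algebra.TensorProduct.lift (Algebra.ofId Q S) (AlgHom.id R S) (fun _ _ => Commute.all _ _)

variable {X : Type u} [AddCommGroup X] [Module R X]
  {Z : Type u} [AddCommGroup Z] [Module R Z] [Module Q Z] [IsScalarTower R Q Z]
  {Z' : Type u} [AddCommGroup Z'] [Module R Z'] [Module Q Z'] [IsScalarTower R Q Z']

theorem bcS_id_contr (S : Type u) [CommSemiring S] [Algebra R S] [Algebra Q S] [IsScalarTower R Q S]
    (z : (Q ⊗[R] S) ⊗[Q] Z) :
    bcS (Q := Q) (LinearMap.id : Z →ₗ[R] Z) S (contr (Q := Q) S Z z) =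
      (mulMap (R := R) (Q := Q) S).toLinearMap.rTensor Z z := by
  induction z using TensorProduct.induction_on with
  | zero => simp
  | add a b ha hb => simp only [map_add, ha, hb]
  | tmul p n =>
    induction p using TensorProduct.induction_on with
    | zero => simp
    | add a b ha hb => simp only [TensorProduct.add_tmul, map_add, ha, hb]
    | tmul q s =>
      simp [mulMap, Algebra.ofId_apply, ← Algebra.smul_def, TensorProduct.smul_tmul]

theorem bcS_comp (g : X →ₗ[R] Z) (S : Type u) [CommSemiring S] [Algebra R S] [Algebra Q S] [IsScalarTower R Q S]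
    (y : S ⊗[R] X) : bcS (Q := Q) (LinearMap.id : Z →ₗ[R] Z) S (g.lTensor S y) = bcS (Q := Q) g S y := by
  induction y using TensorProduct.induction_on with
  | zero => simp
  | tmul a b => simp
  | add a b ha hb => simp [ha, hb]

theorem lTensor_bcS (g : X →ₗ[R] Z) (h : Z →ₗ[Q] Z') (S : Type u) [CommSemiring S] [Algebra R S] [Algebra Q S]
    [IsScalarTower R Q S] (y : S ⊗[R] X) :
    h.lTensor S (bcS (Q := Q) g S y) = bcS (Q := Q) (h.restrictScalars R ∘ₗ g) S y := by
  induction y using TensorProduct.induction_on with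
  | zero => simp
  | tmul a b => simp
  | add a b ha hb => simp [ha, hb]

theorem lTensor_contr (h : Z →ₗ[Q] Z') (S : Type u) [CommSemiring S] [Algebra R S]
    (z : (Q ⊗[R] S) ⊗[Q] Z) :
    (h.restrictScalars R).lTensor S (contr (Q := Q) S Z z) = contr (Q := Q) S Z' (h.lTensor (Q ⊗[R] S) z) := by
  induction z using TensorProduct.induction_on with
  | zero => simp
  | add a b ha hb => simp only [map_add, ha, hb]
  | tmul p n =>
    induction p using TensorProduct.induction_on with
    | zero => simp
    | add a b ha hb => simp only [TensorProduct.add_tmul, map_add, ha, hb]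
    | tmul q s => simp

theorem contr_bcS_incl (g : X →ₗ[R] Z) (S : Type u) [CommSemiring S] [Algebra R S] (y : S ⊗[R] X) :
    contr (Q := Q) S Z (bcS (Q := Q) g (Q ⊗[R] S) ((incl (R := R) (Q := Q) S).toLinearMap.rTensor X y)) =
      g.lTensor S y := by
  induction y using TensorProduct.induction_on with
  | zero => simp
  | tmul a b => simp [incl]
  | add a b ha hb => simp [ha, hb]

theorem mulMap_incl (S : Type u) [CommSemiring S] [Algebra R S] [Algebra Q S] [IsScalarTower R Q S]
    (y : S ⊗[R] X) :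
    ((mulMap (R := R) (Q := Q) S).restrictScalars R).toLinearMap.rTensor X
      ((incl (R := R) (Q := Q) S).toLinearMap.rTensor X y) = y := by
  induction y using TensorProduct.induction_on with
  | zero => simp
  | tmul a b => simp [incl, mulMap]
  | add a b ha hb => simp only [map_add, ha, hb]

end Tools

variable {R R' Q Q' : Type u} [CommRing R] [CommRing R'] [Algebra R R']
  [CommRing Q] [Algebra R Q] [CommRing Q'] [Algebra R Q'] [Algebra Q Q'] [Algebra R' Q']
  [IsScalarTower R Q Q'] [IsScalarTower R R' Q'] [Algebra.IsPushout R R' Q Q']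
  [Module.Free R R'] [Module.Finite R R']
  {M' : Type u} [AddCommGroup M'] [Module R M'] [Module R' M'] [IsScalarTower R R' M']
  {M'' : Type u} [AddCommGroup M''] [Module R M''] [Module R' M''] [Module Q M''] [Module Q' M'']
  [IsScalarTower R R' M''] [IsScalarTower R Q M''] [IsScalarTower R' Q' M''] [IsScalarTower Q Q' M'']
  (f : M' →ₗ[R'] M'')
  {N : Type u} [AddCommGroup N] [Module R N] (ν : M' →ₚₗ[R] N)
  {N'' : Type u} [AddCommGroup N''] [Module R N''] [Module Q N''] [IsScalarTower R Q N'']
  (ν'' : M'' →ₚₗ[Q] N'')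

/-- The restriction of a law along the base change map. -/
noncomputable def muR : M' →ₚₗ[R] N'' where
  toFun' S _ _ := fun m => contr (Q := Q) S N'' (ν''.toFun' (Q ⊗[R] S)
    (bcS (Q := Q) (f.restrictScalars R) (Q ⊗[R] S) ((incl (R := R) (Q := Q) S).toLinearMap.rTensor M' m)))
  isCompat' {S} _ _ {S'} _ _ φ := by
    funext m
    simp only [Function.comp_apply]
    rw [contr_nat, PolynomialLaw.isCompat_apply', bcS_nat]
    congr 3
    induction m using TensorProduct.induction_on with
    | zero => simp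
    | tmul a b => simp [incl]
    | add a b ha hb => simp only [map_add, ha, hb]

theorem muR_normic (hν'' : PolLaw.IsNormic Q' ν'') : PolLaw.IsNormic R' (muR (Q := Q) (R := R) f ν'') := by
  intro P _ _ x m
  simp only [muR]
  rw [PolLaw.rTensor_actEnd, bcS_act (Q := Q) (Q' := Q'), hν'', norm_algBC (Q := Q) (Q' := Q'), ← contr_smul]
  congr 2
  have h := PolLaw.detAct_map (M := R') (incl (R := R) (Q := Q) P) x
  rw [PolLaw.detAct_self, PolLaw.detAct_self] at h
  exact h

theorem compat_of_eq (u : N →ₗ[R] N'') (hu : PolLaw.postcomp u ν = muR f ν'') (S : Type u) [CommSemiring S]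
    [Algebra R S] [Algebra Q S] [IsScalarTower R Q S] (m : S ⊗[R] M') :
    ν''.toFun' S (bcS (Q := Q) (f.restrictScalars R) S m) = bcS (Q := Q) u S (ν.toFun' S m) := by
  have h : u.lTensor S (ν.toFun' S m) = (muR f ν'').toFun' S m := by
    rw [← hu]; rfl
  rw [← bcS_comp u, h]
  show _ = bcS (Q := Q) _ S (contr (Q := Q) S N'' _)
  rw [bcS_id_contr, PolynomialLaw.isCompat_apply', bcS_nat, mulMap_incl]

/-- The `R`-structure of a `Q`-algebra. -/
@[reducible] def rAlg (S : Type u) [CommSemiring S] [Algebra Q S] : Algebra R S :=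
  ((algebraMap Q S).comp (algebraMap R Q)).toAlgebra

variable (hf : IsBaseChange Q (f.restrictScalars R))

/-- The inverse of the base change map. -/
noncomputable def bcInv (S : Type u) [CommSemiring S] [Algebra R S] [Algebra Q S] [IsScalarTower R Q S]
    (z : S ⊗[Q] M'') : S ⊗[R] M' :=
  (Equiv.ofBijective _ (bcS_bijective (f.restrictScalars R) hf S)).symm z

theorem bcInv_bcS (S : Type u) [CommSemiring S] [Algebra R S] [Algebra Q S] [IsScalarTower R Q S]
    (m : S ⊗[R] M') : bcInv f hf S (bcS (Q := Q) (f.restrictScalars R) S m) = m :=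
  (Equiv.ofBijective _ (bcS_bijective (f.restrictScalars R) hf S)).symm_apply_apply m

theorem exists_bcS (hf : IsBaseChange Q (f.restrictScalars R)) (S : Type u) [CommSemiring S] [Algebra R S] [Algebra Q S] [IsScalarTower R Q S]
    (z : S ⊗[Q] M'') : ∃ m : S ⊗[R] M', bcS (Q := Q) (f.restrictScalars R) S m = z :=
  (bcS_bijective (f.restrictScalars R) hf S).2 z

/-- The value of the base changed law. -/
noncomputable def muQFun (S : Type u) [CommSemiring S] [Algebra R S] [Algebra Q S] [IsScalarTower R Q S]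
    (z : S ⊗[Q] M'') : S ⊗[Q] (Q ⊗[R] N) :=
  bcS (Q := Q) (TensorProduct.mk R Q N 1) S (ν.toFun' S (bcInv f hf S z))

/-- The base changed law. -/
noncomputable def muQ : M'' →ₚₗ[Q] (Q ⊗[R] N) where
  toFun' S _ _ :=
    letI : Algebra R S := rAlg (R := R) (Q := Q) S
    haveI : IsScalarTower R Q S := IsScalarTower.of_algebraMap_eq fun _ => rfl
    muQFun f ν hf S
  isCompat' {S} _ _ {S'} _ _ φ := by
    letI : Algebra R S := rAlg (R := R) (Q := Q) S
    haveI : IsScalarTower R Q S := IsScalarTower.of_algebraMap_eq fun _ => rfl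
    letI : Algebra R S' := rAlg (R := R) (Q := Q) S'
    haveI : IsScalarTower R Q S' := IsScalarTower.of_algebraMap_eq fun _ => rfl
    funext z
    obtain ⟨m, rfl⟩ := exists_bcS f hf S z
    simp only [Function.comp_apply, muQFun]
    rw [bcInv_bcS, bcS_nat, bcS_nat, bcInv_bcS, PolynomialLaw.isCompat_apply']

theorem muQ_toFun (S : Type u) [CommSemiring S] [iR : Algebra R S] [Algebra Q S] [IsScalarTower R Q S]
    (z : S ⊗[Q] M'') : (muQ f ν hf).toFun' S z = muQFun f ν hf S z := by
  obtain rfl : iR = rAlg (R := R) (Q := Q) S :=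
    Algebra.algebra_ext _ _ fun r => IsScalarTower.algebraMap_apply R Q S r
  rfl

theorem muQ_normic (hν : PolLaw.IsNormic R' ν) : PolLaw.IsNormic Q' (muQ f ν hf) := by
  intro P _ _ x z
  letI : Algebra R P := rAlg (R := R) (Q := Q) P
  haveI : IsScalarTower R Q P := IsScalarTower.of_algebraMap_eq fun _ => rfl
  obtain ⟨x, rfl⟩ := (algBC_bijective (R := R) (R' := R') (Q := Q) (Q' := Q') P).2 x
  obtain ⟨m, rfl⟩ := exists_bcS f hf P z
  rw [muQ_toFun, muQ_toFun, norm_algBC (Q := Q) (Q' := Q')]
  simp only [muQFun]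
  rw [← bcS_act (Q := Q) (Q' := Q'), bcInv_bcS, bcInv_bcS, hν, bcS_smul]

theorem main (hν : PolLaw.IsUnivNormic R' ν) (hν'' : PolLaw.IsUnivNormic Q' ν'')
    (hf : IsBaseChange Q (f.restrictScalars R)) :
    ∃ u : N →ₗ[R] N'',
      (∀ (P : Type u) [CommRing P] [Algebra R P] [Algebra Q P] [IsScalarTower R Q P] (m : P ⊗[R] M'),
          ν''.toFun' P (PolLaw.bcAlong (f.restrictScalars R) P m) = PolLaw.bcAlong u P (ν.toFun' P m)) ∧
      IsBaseChange Q u := by
  obtain ⟨u, hu, -⟩ := hν.2 N'' (muR f ν'') (muR_normic f ν'' hν''.1)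
  obtain ⟨φ, hφ, -⟩ := hν''.2 (Q ⊗[R] N) (muQ f ν hf) (muQ_normic f ν hf hν.1)
  have hφ' : ∀ (S : Type u) [CommSemiring S] [Algebra Q S] (z : S ⊗[Q] M''),
      φ.lTensor S (ν''.toFun' S z) = (muQ f ν hf).toFun' S z := fun S _ _ z => by rw [← hφ]; rfl
  refine ⟨u, fun P _ _ _ _ m => ?_, ?_⟩
  · rw [bcAlong_eq, bcAlong_eq]
    exact compat_of_eq f ν ν'' u hu P m
  · let L : Q ⊗[R] N →ₗ[Q] N'' := u.liftBaseChange Q
    have hL : L.restrictScalars R ∘ₗ TensorProduct.mk R Q N 1 = u := by
      ext x; simp [L]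
    have h1 : φ.restrictScalars R ∘ₗ u = TensorProduct.mk R Q N 1 := by
      obtain ⟨ψ, -, hψ⟩ := hν.2 (Q ⊗[R] N) (PolLaw.postcomp (TensorProduct.mk R Q N 1) ν) (by
        intro P _ _ x m
        show (TensorProduct.mk R Q N 1).lTensor P (ν.toFun' P _) =
          _ • (TensorProduct.mk R Q N 1).lTensor P (ν.toFun' P _)
        rw [hν.1]
        generalize Algebra.norm P x = c
        generalize ν.toFun' P m = y
        induction y using TensorProduct.induction_on with
        | zero => simp
        | tmul a b => simp [TensorProduct.smul_tmul']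
        | add a b ha hb => simp only [smul_add, map_add, ha, hb])
      refine (hψ _ ?_).trans (hψ _ rfl).symm
      apply PolynomialLaw.ext
      funext S _ _ m
      show (φ.restrictScalars R ∘ₗ u).lTensor S (ν.toFun' S m) =
        (TensorProduct.mk R Q N 1).lTensor S (ν.toFun' S m)
      rw [LinearMap.lTensor_comp, LinearMap.comp_apply,
        show u.lTensor S (ν.toFun' S m) = (muR f ν'').toFun' S m by rw [← hu]; rfl]
      show _ = _
      simp only [muR]
      rw [lTensor_contr, hφ', muQ_toFun, muQFun, bcInv_bcS, ← PolynomialLaw.isCompat_apply', contr_bcS_incl]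
    have h2 : L ∘ₗ φ = LinearMap.id := by
      obtain ⟨ψ, -, hψ⟩ := hν''.2 N'' ν'' hν''.1
      refine (hψ _ ?_).trans (hψ _ ?_).symm
      · apply PolynomialLaw.ext
        funext S _ _ z
        letI : Algebra R S := rAlg (R := R) (Q := Q) S
        haveI : IsScalarTower R Q S := IsScalarTower.of_algebraMap_eq fun _ => rfl
        obtain ⟨m, rfl⟩ := exists_bcS f hf S z
        show (L ∘ₗ φ).lTensor S (ν''.toFun' S _) = _
        rw [LinearMap.lTensor_comp, LinearMap.comp_apply, hφ', muQ_toFun, muQFun, bcInv_bcS, lTensor_bcS, hL,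
          ← compat_of_eq f ν ν'' u hu]
      · apply PolynomialLaw.ext
        funext S _ _ z
        exact LinearMap.lTensor_id_apply _ _ _
    have h3 : φ ∘ₗ L = LinearMap.id := by
      refine TensorProduct.AlgebraTensorModule.curry_injective ?_
      ext x
      simpa [L] using LinearMap.congr_fun h1 x
    exact IsBaseChange.of_equiv (LinearEquiv.ofLinear L φ h2 h3) fun x => by simp [L]

end Groth.Agent.H1NormBC
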